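import Cfsg.Agent.Lib.Recog.SporBound.TriF9.Data

set_option autoImplicit false
set_option maxRecDepth 20000

/-! Checks of the certificate, part 14. -/

namespace CfsgLib.Recog.SporBound.TriF9
open CfsgLib.Recog.SporBound
open CfsgLib.ThreeTrans.CosetIndex (forallFrom)

theorem steps28 : cert.stepsPart 1680 60 = true := by decide +kernel

theorem steps29 : cert.stepsPart 1740 60 = true := by decide +kernel

theorem steps30 : cert.stepsPart 1800 60 = true := by decide +kernel

theorem steps31 : cert.stepsPart 1860 60 = true := by decide +kernel

end CfsgLib.Recog.SporBound.TriF9
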