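import Cfsg.Agent.Lib.Recog.SporBound.TriF9.Data

set_option autoImplicit false
set_option maxRecDepth 20000

/-! Checks of the certificate, part 16. -/

namespace CfsgLib.Recog.SporBound.TriF9
open CfsgLib.Recog.SporBound
open CfsgLib.ThreeTrans.CosetIndex (forallFrom)

theorem steps36 : cert.stepsPart 2160 60 = true := by decide +kernel

theorem steps37 : cert.stepsPart 2220 60 = true := by decide +kernel

theorem steps38 : cert.stepsPart 2280 60 = true := by decide +kernel

theorem steps39 : cert.stepsPart 2340 60 = true := by decide +kernel

end CfsgLib.Recog.SporBound.TriF9
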