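import Cfsg.Agent.Lib.Recog.SporBound.TriF9.Data

set_option autoImplicit false
set_option maxRecDepth 20000

/-! Checks of the certificate, part 24. -/

namespace CfsgLib.Recog.SporBound.TriF9
open CfsgLib.Recog.SporBound
open CfsgLib.ThreeTrans.CosetIndex (forallFrom)

theorem finals26 : cert.finalsPart 3900 150 = true := by decide +kernel

theorem finals27 : cert.finalsPart 4050 150 = true := by decide +kernel

theorem finals28 : cert.finalsPart 4200 150 = true := by decide +kernel

theorem finals29 : cert.finalsPart 4350 150 = true := by decide +kernel

end CfsgLib.Recog.SporBound.TriF9
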