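import Cfsg.Agent.Lib.Recog.SporBound.TriF9.Data

set_option autoImplicit false
set_option maxRecDepth 20000

/-! Checks of the certificate, part 4. -/

namespace CfsgLib.Recog.SporBound.TriF9
open CfsgLib.Recog.SporBound
open CfsgLib.ThreeTrans.CosetIndex (forallFrom)

theorem defs16 : forallFrom cert.defOK 24000 1500 = true := by decide +kernel

theorem defs17 : forallFrom cert.defOK 25500 1500 = true := by decide +kernel

theorem defs18 : forallFrom cert.defOK 27000 1500 = true := by decide +kernel

theorem defs19 : forallFrom cert.defOK 28500 1500 = true := by decide +kernel

end CfsgLib.Recog.SporBound.TriF9
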