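import Cfsg.Agent.Lib.Recog.SporBound.TriF9.Data

set_option autoImplicit false
set_option maxRecDepth 20000

/-! Checks of the certificate, part 5. -/

namespace CfsgLib.Recog.SporBound.TriF9
open CfsgLib.Recog.SporBound
open CfsgLib.ThreeTrans.CosetIndex (forallFrom)

theorem defs20 : forallFrom cert.defOK 30000 1500 = true := by decide +kernel

theorem defs21 : forallFrom cert.defOK 31500 1500 = true := by decide +kernel

theorem defs22 : forallFrom cert.defOK 33000 1500 = true := by decide +kernel

theorem defs23 : forallFrom cert.defOK 34500 1500 = true := by decide +kernel

end CfsgLib.Recog.SporBound.TriF9
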