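import Cfsg.Agent.Lib.Recog.SporBound.Sound
import Cfsg.Agent.Lib.Recog.SporBound.TriF9.Tree0
import Cfsg.Agent.Lib.Recog.SporBound.TriF9.Tree1
import Cfsg.Agent.Lib.Recog.SporBound.TriF9.Tree2
import Cfsg.Agent.Lib.Recog.SporBound.TriF9.Tree3
import Cfsg.Agent.Lib.Recog.SporBound.TriF9.Tree4
import Cfsg.Agent.Lib.Recog.SporBound.TriF9.Tree5
import Cfsg.Agent.Lib.Recog.SporBound.TriF9.Tree6
import Cfsg.Agent.Lib.Recog.SporBound.TriF9.Tree7
import Cfsg.Agent.Lib.Recog.SporBound.TriF9.Tree8
import Cfsg.Agent.Lib.Recog.SporBound.TriF9.Tree9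
import Cfsg.Agent.Lib.Recog.SporBound.TriF9.Tree10
import Cfsg.Agent.Lib.Recog.SporBound.TriF9.Tree11
import Cfsg.Agent.Lib.Recog.SporBound.TriF9.Tree12
import Cfsg.Agent.Lib.Recog.SporBound.TriF9.Tree13
import Cfsg.Agent.Lib.Recog.SporBound.TriF9.Tree14
import Cfsg.Agent.Lib.Recog.SporBound.TriF9.Tree15
import Cfsg.Agent.Lib.Recog.SporBound.TriF9.Tree16
import Cfsg.Agent.Lib.Recog.SporBound.TriF9.Tree17
import Cfsg.Agent.Lib.Recog.SporBound.TriF9.Tree18
import Cfsg.Agent.Lib.Recog.SporBound.TriF9.Tree19
import Cfsg.Agent.Lib.Recog.SporBound.TriF9.Tree20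
import Cfsg.Agent.Lib.Recog.SporBound.TriF9.Tree21
import Cfsg.Agent.Lib.Recog.SporBound.TriF9.Tree22
import Cfsg.Agent.Lib.Recog.SporBound.TriF9.Tree23
import Cfsg.Agent.Lib.Recog.SporBound.TriF9.Tree24
import Cfsg.Agent.Lib.Recog.SporBound.TriF9.Tree25
import Cfsg.Agent.Lib.Recog.SporBound.TriF9.Tree26
import Cfsg.Agent.Lib.Recog.SporBound.TriF9.Tree27
import Cfsg.Agent.Lib.Recog.SporBound.TriF9.Tree28
import Cfsg.Agent.Lib.Recog.SporBound.TriF9.Tree29
import Cfsg.Agent.Lib.Recog.SporBound.TriF9.Tree30
import Cfsg.Agent.Lib.Recog.SporBound.TriF9.Tree31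
import Cfsg.Agent.Lib.Recog.SporBound.TriF9.Tree32
import Cfsg.Agent.Lib.Recog.SporBound.TriF9.Tree33
import Cfsg.Agent.Lib.Recog.SporBound.TriF9.Tree34
import Cfsg.Agent.Lib.Recog.SporBound.TriF9.Tree35
import Cfsg.Agent.Lib.Recog.SporBound.TriF9.Tree36
import Cfsg.Agent.Lib.Recog.SporBound.TriF9.Tree37
import Cfsg.Agent.Lib.Recog.SporBound.TriF9.Tree38
import Cfsg.Agent.Lib.Recog.SporBound.TriF9.Tree39
import Cfsg.Agent.Lib.Recog.SporBound.TriF9.Tree40

set_option autoImplicit false
set_option maxRecDepth 20000

/-! Generated closure certificate: Fi23 tower, cosets of a parabolic in the next <abcdefghij> (owner: helper21). -/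

namespace CfsgLib.Recog.SporBound.TriF9
open CfsgLib.Recog.SporBound

noncomputable def factTree : Q (ℕ) := (.node (.node (.node (.node ft7 ft14 ft21 ft28) (.node ft36 ft43 ft50 ft57) (.node ft65 ft72 ft79 ft86) (.node ft93 ft100 ft107 ft114)) (.node (.node ft122 ft129 ft136 ft143) (.node ft151 ft158 ft165 ft172) (.node ft180 ft187 ft194 ft201) (.node ft208 ft215 ft222 ft229)) (.node (.node ft237 ft244 ft251 ft258) (.node ft266 ft273 ft280 ft287) (.node ft295 ft302 ft309 ft316) (.node ft323 ft330 ft337 ft344)) (.node (.node ft352 ft359 ft366 ft373) (.node ft381 ft388 ft395 ft402) (.node ft409 ft416 ft423 ft430) (.node ft437 ft444 ft451 ft458))) (.node (.node (.node ft466 ft473 ft480 ft487) (.node ft495 ft502 ft509 ft516) (.node ft524 ft531 ft538 ft545) (.node ft552 ft559 ft566 ft573)) (.node (.node ft581 ft588 ft595 ft602) (.node ft610 ft617 ft624 ft631) (.node ft639 ft646 ft653 ft660) (.node ft667 ft674 ft681 ft688)) (.node (.node ft696 ft703 ft710 ft717) (.node ft725 ft732 ft739 ft746) (.node ft754 ft761 ft768 ft775) (.node ft782 ft789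 ft796 ft803)) (.node (.node ft811 ft818 ft825 ft832) (.node ft840 ft847 ft854 ft861) (.node ft868 ft875 ft882 ft889) (.node ft896 ft903 ft910 ft917))) (.node (.node (.node ft925 ft932 ft939 ft946) (.node ft954 ft961 ft968 ft975) (.node ft983 ft990 ft997 ft1004) (.node ft1011 ft1018 ft1025 ft1032)) (.node (.node ft1040 ft1047 ft1054 ft1061) (.node ft1069 ft1076 ft1083 ft1090) (.node ft1098 ft1105 ft1112 ft1119) (.node ft1126 ft1133 ft1140 ft1147)) (.node (.node ft1155 ft1162 ft1169 ft1176) (.node ft1184 ft1191 ft1198 ft1205) (.node ft1213 ft1220 ft1227 ft1234) (.node ft1241 ft1248 ft1255 ft1262)) (.node (.node ft1270 ft1277 ft1284 ft1291) (.node ft1299 ft1306 ft1313 ft1320) (.node ft1327 ft1334 ft1341 ft1348) (.node ft1355 ft1362 ft1369 ft1376))) (.node (.node (.node ft1384 ft1391 ft1398 ft1405) (.node ft1413 ft1420 ft1427 ft1434) (.node ft1442 ft1449 ft1456 ft1463) (.node ft1470 ft1477 ft1484 ft1491)) (.node (.node ft1499 ft1506 ft1513 ft1520) (.node ft1528 ft1535 ft1542 ft1549) (.node ft1557 ft1564 ft1571 ft1578) (.node ft1585 ft1592 ft1599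 ft1606)) (.node (.node ft1614 ft1621 ft1628 ft1635) (.node ft1643 ft1650 ft1657 ft1664) (.node ft1671 ft1678 ft1685 ft1692) (.node ft1699 ft1706 ft1713 ft1720)) (.node (.node ft1728 ft1735 ft1742 ft1749) (.node ft1757 ft1764 ft1771 ft1778) (.node ft1785 ft1792 ft1799 ft1806) (.node ft1813 ft1820 ft1827 ft1834))))
noncomputable def nodeTree : Q (ℕ) := (.node (.node ct16 ct33 ct49 ct65) (.node ct82 ct99 ct115 ct131) (.node ct148 ct165 ct181 ct197) (.node ct214 ct231 ct247 ct263))
noncomputable def stepTree : Q (List ℕ) := (.node (.node (.node (.node st10 st21 st32 st43) (.node st54 st65 st76 st87) (.node st98 st109 st120 st130) (.node st141 st152 st163 st173)) (.node (.node st184 st195 st206 st217) (.node st228 st239 st250 st260) (.node st271 st282 st293 st303) (.node st314 st325 st336 st346)) (.node (.node st357 st368 st379 st390) (.node st401 st412 st423 st433) (.node st444 st455 st466 st476) (.node st487 st498 st509 st519)) (.node (.node st530 st541 st552 st563) (.node st574 st585 st596 st606) (.node st617 st628 st639 st649) (.node st660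 st671 st682 st692))) (.node (.node (.node st703 st714 st725 st736) (.node st747 st758 st769 st780) (.node st791 st802 st813 st823) (.node st834 st845 st856 st866)) (.node (.node st877 st888 st899 st910) (.node st921 st932 st943 st953) (.node st964 st975 st986 st996) (.node st1007 st1018 st1029 st1039)) (.node (.node st1050 st1061 st1072 st1083) (.node st1094 st1105 st1116 st1126) (.node st1137 st1148 st1159 st1169) (.node st1180 st1191 st1202 st1212)) (.node (.node st1223 st1234 st1245 st1256) (.node st1267 st1278 st1289 st1299) (.node st1310 st1321 st1332 st1342) (.node st1353 st1364 st1375 st1385))) (.node (.node (.node st1396 st1407 st1418 st1429) (.node st1440 st1451 st1462 st1473) (.node st1484 st1495 st1506 st1516) (.node st1527 st1538 st1549 st1559)) (.node (.node st1570 st1581 st1592 st1603) (.node st1614 st1625 st1636 st1646) (.node st1657 st1668 st1679 st1689) (.node st1700 st1711 st1722 st1732)) (.node (.node st1743 st1754 st1765 st1776) (.node st1787 st1798 st1809 st1819) (.node st1830 st1841 st1852 st1862) (.node st1873 st1884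 st1895 st1905)) (.node (.node st1916 st1927 st1938 st1949) (.node st1960 st1971 st1982 st1992) (.node st2003 st2014 st2025 st2035) (.node st2046 st2057 st2068 st2078))) (.node (.node (.node st2089 st2100 st2111 st2122) (.node st2133 st2144 st2155 st2166) (.node st2177 st2188 st2199 st2209) (.node st2220 st2231 st2242 st2252)) (.node (.node st2263 st2274 st2285 st2296) (.node st2307 st2318 st2329 st2339) (.node st2350 st2361 st2372 st2382) (.node st2393 st2404 st2415 st2425)) (.node (.node st2436 st2447 st2458 st2469) (.node st2480 st2491 st2502 st2512) (.node st2523 st2534 st2545 st2555) (.node st2566 st2577 st2588 st2598)) (.node (.node st2609 st2620 st2631 st2642) (.node st2653 st2664 st2675 st2685) (.node st2696 st2707 st2718 st2728) (.node st2739 st2750 st2761 st2771))))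
noncomputable def finalTree : Q (List ℕ) := (.node (.node (.node (.node (.node et5 et11 et17 et23) (.node et29 et35 et41 et47) (.node et53 et59 et65 et70) (.node et76 et82 et88 et93)) (.node (.node et99 et105 et111 et117) (.node et123 et129 et135 et141) (.node et147 et153 et159 et164) (.node et170 et176 et182 et187)) (.node (.node et193 et199 et205 et211) (.node et217 et223 et229 et234) (.node et240 et246 et252 et257) (.node et263 et269 et275 et280)) (.node (.node et286 et292 et298 et304) (.node et310 et316 et322 et327) (.node et333 et339 et345 et350) (.node et356 et362 et368 et373))) (.node (.node (.node et379 et385 et391 et397) (.node et403 et409 et415 et421) (.node et427 et433 et439 et444) (.node et450 et456 et462 et467)) (.node (.node et473 et479 et485 et491) (.node et497 et503 et509 et515) (.node et521 et527 et533 et538) (.node et544 et550 et556 et561)) (.node (.node et567 et573 et579 et585) (.node et591 et597 et603 et608) (.node et614 et620 et626 et631) (.node et637 et643 et649 et654)) (.node (.node et660 et666 et672 et678) (.node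 et684 et690 et696 et701) (.node et707 et713 et719 et724) (.node et730 et736 et742 et747))) (.node (.node (.node et753 et759 et765 et771) (.node et777 et783 et789 et795) (.node et801 et807 et813 et818) (.node et824 et830 et836 et841)) (.node (.node et847 et853 et859 et865) (.node et871 et877 et883 et888) (.node et894 et900 et906 et911) (.node et917 et923 et929 et934)) (.node (.node et940 et946 et952 et958) (.node et964 et970 et976 et981) (.node et987 et993 et999 et1004) (.node et1010 et1016 et1022 et1027)) (.node (.node et1033 et1039 et1045 et1051) (.node et1057 et1063 et1069 et1074) (.node et1080 et1086 et1092 et1097) (.node et1103 et1109 et1115 et1120))) (.node (.node (.node et1126 et1132 et1138 et1144) (.node et1150 et1156 et1162 et1168) (.node et1174 et1180 et1186 et1191) (.node et1197 et1203 et1209 et1214)) (.node (.node et1220 et1226 et1232 et1238) (.node et1244 et1250 et1256 et1261) (.node et1267 et1273 et1279 et1284) (.node et1290 et1296 et1302 et1307)) (.node (.node et1313 et1319 et1325 et1331) (.node et1337 et1343 et1349 et1354)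 (.node et1360 et1366 et1372 et1377) (.node et1383 et1389 et1395 et1400)) (.node (.node et1406 et1412 et1418 et1424) (.node et1430 et1436 et1442 et1447) (.node et1453 et1459 et1465 et1470) (.node et1476 et1482 et1488 et1493)))) (.node (.node (.node (.node et1499 et1505 et1511 et1517) (.node et1523 et1529 et1535 et1541) (.node et1547 et1553 et1559 et1564) (.node et1570 et1576 et1582 et1587)) (.node (.node et1593 et1599 et1605 et1611) (.node et1617 et1623 et1629 et1635) (.node et1641 et1647 et1653 et1658) (.node et1664 et1670 et1676 et1681)) (.node (.node et1687 et1693 et1699 et1705) (.node et1711 et1717 et1723 et1728) (.node et1734 et1740 et1746 et1751) (.node et1757 et1763 et1769 et1774)) (.node (.node et1780 et1786 et1792 et1798) (.node et1804 et1810 et1816 et1821) (.node et1827 et1833 et1839 et1844) (.node et1850 et1856 et1862 et1867))) (.node (.node (.node et1873 et1879 et1885 et1891) (.node et1897 et1903 et1909 et1915) (.node et1921 et1927 et1933 et1938) (.node et1944 et1950 et1956 et1961)) (.node (.node et1967 et1973 et1979 et1985)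 (.node et1991 et1997 et2003 et2008) (.node et2014 et2020 et2026 et2031) (.node et2037 et2043 et2049 et2054)) (.node (.node et2060 et2066 et2072 et2078) (.node et2084 et2090 et2096 et2101) (.node et2107 et2113 et2119 et2124) (.node et2130 et2136 et2142 et2147)) (.node (.node et2153 et2159 et2165 et2171) (.node et2177 et2183 et2189 et2194) (.node et2200 et2206 et2212 et2217) (.node et2223 et2229 et2235 et2240))) (.node (.node (.node et2246 et2252 et2258 et2264) (.node et2270 et2276 et2282 et2288) (.node et2294 et2300 et2306 et2311) (.node et2317 et2323 et2329 et2334)) (.node (.node et2340 et2346 et2352 et2358) (.node et2364 et2370 et2376 et2381) (.node et2387 et2393 et2399 et2404) (.node et2410 et2416 et2422 et2427)) (.node (.node et2433 et2439 et2445 et2451) (.node et2457 et2463 et2469 et2474) (.node et2480 et2486 et2492 et2497) (.node et2503 et2509 et2515 et2520)) (.node (.node et2526 et2532 et2538 et2544) (.node et2550 et2556 et2562 et2567) (.node et2573 et2579 et2585 et2590) (.node et2596 et2602 et2608 et2613))) (.node (.node (.node et2619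 et2625 et2631 et2637) (.node et2643 et2649 et2655 et2661) (.node et2667 et2673 et2679 et2684) (.node et2690 et2696 et2702 et2707)) (.node (.node et2713 et2719 et2725 et2731) (.node et2737 et2743 et2749 et2754) (.node et2760 et2766 et2772 et2777) (.node et2783 et2789 et2795 et2800)) (.node (.node et2806 et2812 et2818 et2824) (.node et2830 et2836 et2842 et2847) (.node et2853 et2859 et2865 et2870) (.node et2876 et2882 et2888 et2893)) (.node (.node et2899 et2905 et2911 et2917) (.node et2923 et2929 et2935 et2940) (.node et2946 et2952 et2958 et2963) (.node et2969 et2975 et2981 et2986)))) (.node (.node (.node (.node et2992 et2998 et3004 et3010) (.node et3016 et3022 et3028 et3034) (.node et3040 et3046 et3052 et3057) (.node et3063 et3069 et3075 et3080)) (.node (.node et3086 et3092 et3098 et3104) (.node et3110 et3116 et3122 et3128) (.node et3134 et3140 et3146 et3151) (.node et3157 et3163 et3169 et3174)) (.node (.node et3180 et3186 et3192 et3198) (.node et3204 et3210 et3216 et3221) (.node et3227 et3233 et3239 et3244) (.node et3250 et3256 et3262 et3267))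 (.node (.node et3273 et3279 et3285 et3291) (.node et3297 et3303 et3309 et3314) (.node et3320 et3326 et3332 et3337) (.node et3343 et3349 et3355 et3360))) (.node (.node (.node et3366 et3372 et3378 et3384) (.node et3390 et3396 et3402 et3408) (.node et3414 et3420 et3426 et3431) (.node et3437 et3443 et3449 et3454)) (.node (.node et3460 et3466 et3472 et3478) (.node et3484 et3490 et3496 et3501) (.node et3507 et3513 et3519 et3524) (.node et3530 et3536 et3542 et3547)) (.node (.node et3553 et3559 et3565 et3571) (.node et3577 et3583 et3589 et3594) (.node et3600 et3606 et3612 et3617) (.node et3623 et3629 et3635 et3640)) (.node (.node et3646 et3652 et3658 et3664) (.node et3670 et3676 et3682 et3687) (.node et3693 et3699 et3705 et3710) (.node et3716 et3722 et3728 et3733))) (.node (.node (.node et3739 et3745 et3751 et3757) (.node et3763 et3769 et3775 et3781) (.node et3787 et3793 et3799 et3804) (.node et3810 et3816 et3822 et3827)) (.node (.node et3833 et3839 et3845 et3851) (.node et3857 et3863 et3869 et3874) (.node et3880 et3886 et3892 et3897) (.node et3903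 et3909 et3915 et3920)) (.node (.node et3926 et3932 et3938 et3944) (.node et3950 et3956 et3962 et3967) (.node et3973 et3979 et3985 et3990) (.node et3996 et4002 et4008 et4013)) (.node (.node et4019 et4025 et4031 et4037) (.node et4043 et4049 et4055 et4060) (.node et4066 et4072 et4078 et4083) (.node et4089 et4095 et4101 et4106))) (.node (.node (.node et4112 et4118 et4124 et4130) (.node et4136 et4142 et4148 et4154) (.node et4160 et4166 et4172 et4177) (.node et4183 et4189 et4195 et4200)) (.node (.node et4206 et4212 et4218 et4224) (.node et4230 et4236 et4242 et4247) (.node et4253 et4259 et4265 et4270) (.node et4276 et4282 et4288 et4293)) (.node (.node et4299 et4305 et4311 et4317) (.node et4323 et4329 et4335 et4340) (.node et4346 et4352 et4358 et4363) (.node et4369 et4375 et4381 et4386)) (.node (.node et4392 et4398 et4404 et4410) (.node et4416 et4422 et4428 et4433) (.node et4439 et4445 et4451 et4456) (.node et4462 et4468 et4474 et4479)))) (.node (.node (.node (.node et4485 et4491 et4497 et4503) (.node et4509 et4515 et4521 et4527) (.node et4533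 et4539 et4545 et4550) (.node et4556 et4562 et4568 et4573)) (.node (.node et4579 et4585 et4591 et4597) (.node et4603 et4609 et4615 et4621) (.node et4627 et4633 et4639 et4644) (.node et4650 et4656 et4662 et4667)) (.node (.node et4673 et4679 et4685 et4691) (.node et4697 et4703 et4709 et4714) (.node et4720 et4726 et4732 et4737) (.node et4743 et4749 et4755 et4760)) (.node (.node et4766 et4772 et4778 et4784) (.node et4790 et4796 et4802 et4807) (.node et4813 et4819 et4825 et4830) (.node et4836 et4842 et4848 et4853))) (.node (.node (.node et4859 et4865 et4871 et4877) (.node et4883 et4889 et4895 et4901) (.node et4907 et4913 et4919 et4924) (.node et4930 et4936 et4942 et4947)) (.node (.node et4953 et4959 et4965 et4971) (.node et4977 et4983 et4989 et4994) (.node et5000 et5006 et5012 et5017) (.node et5023 et5029 et5035 et5040)) (.node (.node et5046 et5052 et5058 et5064) (.node et5070 et5076 et5082 et5087) (.node et5093 et5099 et5105 et5110) (.node et5116 et5122 et5128 et5133)) (.node (.node et5139 et5145 et5151 et5157) (.node et5163 et5169 et5175 et5180)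 (.node et5186 et5192 et5198 et5203) (.node et5209 et5215 et5221 et5226))) (.node (.node (.node et5232 et5238 et5244 et5250) (.node et5256 et5262 et5268 et5274) (.node et5280 et5286 et5292 et5297) (.node et5303 et5309 et5315 et5320)) (.node (.node et5326 et5332 et5338 et5344) (.node et5350 et5356 et5362 et5367) (.node et5373 et5379 et5385 et5390) (.node et5396 et5402 et5408 et5413)) (.node (.node et5419 et5425 et5431 et5437) (.node et5443 et5449 et5455 et5460) (.node et5466 et5472 et5478 et5483) (.node et5489 et5495 et5501 et5506)) (.node (.node et5512 et5518 et5524 et5530) (.node et5536 et5542 et5548 et5553) (.node et5559 et5565 et5571 et5576) (.node et5582 et5588 et5594 et5599))) (.node (.node (.node et5605 et5611 et5617 et5623) (.node et5629 et5635 et5641 et5647) (.node et5653 et5659 et5665 et5670) (.node et5676 et5682 et5688 et5693)) (.node (.node et5699 et5705 et5711 et5717) (.node et5723 et5729 et5735 et5740) (.node et5746 et5752 et5758 et5763) (.node et5769 et5775 et5781 et5786)) (.node (.node et5792 et5798 et5804 et5810) (.node et5816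 et5822 et5828 et5833) (.node et5839 et5845 et5851 et5856) (.node et5862 et5868 et5874 et5879)) (.node (.node et5885 et5891 et5897 et5903) (.node et5909 et5915 et5921 et5926) (.node et5932 et5938 et5944 et5949) (.node et5955 et5961 et5967 et5972)))))

/-- The certificate. -/
noncomputable def cert : Cert where
  n := 31671
  nd := 41071
  nf := 202057
  kl := [0, 1, 2, 3, 4, 5, 6, 7, 8, 9]
  facts := factTree
  cn := nodeTree
  steps := stepTree
  finals := finalTree
  rels := [[0, 0], [1, 1], [2, 2], [3, 3], [4, 4], [5, 5], [6, 6], [7, 7], [8, 8], [9, 9], [0, 1, 0, 1, 0, 1], [0, 2, 0, 2], [0, 3, 0, 3], [0, 4, 0, 4], [0, 5, 0, 5], [0, 6, 0, 6], [0, 7, 0, 7], [0, 8, 0, 8], [0, 9, 0, 9], [1, 2, 1, 2, 1, 2], [1, 3, 1, 3], [1, 4, 1, 4], [1, 5, 1, 5], [1, 6, 1, 6], [1, 7, 1, 7], [1, 8, 1, 8], [1, 9, 1, 9], [2, 3, 2, 3, 2, 3], [2, 4, 2, 4], [2, 5, 2, 5], [2, 6, 2, 6], [2, 7, 2, 7], [2, 8, 2, 8], [2, 9, 2, 9], [3, 4, 3, 4, 3, 4], [3, 5, 3, 5], [3, 6, 3, 6], [3, 7, 3, 7, 3, 7], [3, 8, 3, 8], [3, 9, 3, 9], [4, 5, 4, 5, 4, 5], [4, 6, 4, 6], [4, 7,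 4, 7], [4, 8, 4, 8], [4, 9, 4, 9], [5, 6, 5, 6, 5, 6], [5, 7, 5, 7], [5, 8, 5, 8], [5, 9, 5, 9], [6, 7, 6, 7], [6, 8, 6, 8], [6, 9, 6, 9, 6, 9], [7, 8, 7, 8, 7, 8], [7, 9, 7, 9], [8, 9, 8, 9], [3, 2, 1, 3, 4, 5, 3, 7, 8, 3, 2, 1, 3, 4, 5, 3, 7, 8, 3, 2, 1, 3, 4, 5, 3, 7, 8, 3, 2, 1, 3, 4, 5, 3, 7, 8, 3, 2, 1, 3, 4, 5, 3, 7, 8, 3, 2, 1, 3, 4, 5, 3, 7, 8, 3, 2, 1, 3, 4, 5, 3, 7, 8, 3, 2, 1, 3, 4, 5, 3, 7, 8, 3, 2, 1, 3, 4, 5, 3, 7, 8, 3, 2, 1, 3, 4, 5, 3, 7, 8], [0, 1, 2, 3, 4, 5, 7, 0, 1, 2, 3, 4, 5, 7, 0, 1, 2, 3, 4, 5, 7, 0, 1, 2, 3, 4, 5, 7, 0, 1, 2, 3, 4, 5, 7, 0, 1, 2, 3, 4, 5, 7, 0, 1, 2, 3, 4, 5, 7, 0, 1, 2, 3, 4, 5, 7, 0, 1, 2, 3, 4, 5, 7]]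
  subs := [[0], [1], [2], [3], [4], [5], [6], [7], [8]]

/-- Chains of the traced words. -/
noncomputable def closers : List ℕ := []

end CfsgLib.Recog.SporBound.TriF9
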